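import Groth.Agent.H18LoopTor.Lift
import Groth.Agent.H18Torsor.Basic
import Groth.Agent.H13AlgSp.SmoothSection
import Groth.Agent.H18Descent.Basic
import Mathlib.AlgebraicGeometry.Morphisms.LocalFlatDescent
import Mathlib.RingTheory.RingHom.FaithfullyFlat

/-! Torsors over power series are trivial after an étale cover of the coefficient ring. -/

set_option autoImplicit false
set_option backward.isDefEq.respectTransparency false
set_option linter.style.haveILetI false
universe u

open CategoryTheory CategoryTheory.Limits AlgebraicGeometry PowerSeries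

namespace Groth.Agent.H18LoopTor

theorem smooth_surjective_affine {S : Scheme.{u}} {G P : Over S} [GrpObj G] [Smooth G.hom] [IsAffineHom G.hom]
    {a : AlgGrp.Action G P} (h : NonAbH1.IsTorsorFor Scheme.fpqcPrecoverage a) :
    Smooth P.hom ∧ Surjective P.hom ∧ IsAffineHom P.hom := by
  haveI : MorphismProperty.DescendsAlong @Smooth H18Descent.fpqc.{u} :=
    inferInstanceAs (MorphismProperty.DescendsAlong @Smooth (@Surjective ⊓ @Flat ⊓ @QuasiCompact))
  refine ⟨H18Torsor.property_of_isTorsorFor a @Smooth h inferInstance, ⟨fun x => ?_⟩,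
    H18Torsor.property_of_isTorsorFor a @IsAffineHom h inferInstance⟩
  obtain ⟨-, R, hR, hsec⟩ := h
  obtain ⟨𝒰, -, hR'⟩ := Scheme.mem_propQCPrecoverage_iff_exists_quasiCompactCover.mp hR
  subst hR'
  obtain ⟨i, y, hy⟩ := 𝒰.exists_eq x
  obtain ⟨t, ht⟩ := hsec (𝒰.f i) (Presieve.ofArrows.mk i)
  exact ⟨t y, by rw [← Scheme.Hom.comp_apply, ht, hy]⟩

/-- A smooth surjection onto an affine scheme has a section over an affine étale cover. -/
theorem exists_affine_etale_section {R : Type u} [CommRing R] {Y : Scheme.{u}} (p : Y ⟶ Spec (CommRingCat.of R))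
    [Smooth p] [Surjective p] :
    ∃ (R' : Type u) (_ : CommRing R') (_ : Algebra R R'), Algebra.Etale R R' ∧ Module.FaithfullyFlat R R' ∧
      ∃ t : Spec (CommRingCat.of R') ⟶ Y, t ≫ p = Spec.map (CommRingCat.ofHom (algebraMap R R')) := by
  classical
  have hloc : ∀ x : Spec (CommRingCat.of R), ∃ (W : Scheme.{u}) (_ : IsAffine W) (e : W ⟶ Spec (CommRingCat.of R))
      (r : W ⟶ Y), Etale e ∧ r ≫ p = e ∧ x ∈ Set.range e := fun x => by
    obtain ⟨w, rfl⟩ := p.surjective x
    obtain ⟨W, e, r, he, hr, u, hu⟩ := H13AlgSp.SmoothSection.exists_etale_section p w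
    obtain ⟨_, ⟨V, hV, rfl⟩, huV, -⟩ := W.isBasis_affineOpens.exists_subset_of_mem_open (Set.mem_univ u) isOpen_univ
    exact ⟨Scheme.Opens.toScheme V, hV, Scheme.Opens.ι V ≫ e, Scheme.Opens.ι V ≫ r, inferInstance,
      by rw [Category.assoc, hr], ⟨⟨u, huV⟩, hu⟩⟩
  choose W hW e r he hr hx using hloc
  haveI := hW
  haveI := he
  obtain ⟨s, hs⟩ := isCompact_univ.elim_finite_subcover (fun x => Set.range (e x))
    (fun x => (e x).isOpenMap.isOpen_range) (fun x _ => Set.mem_iUnion.2 ⟨x, hx x⟩)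
  let Ws : ULift.{u} (Fin s.card) → Scheme.{u} := fun i => W (s.equivFin.symm i.down)
  haveI : ∀ i, IsAffine (Ws i) := fun i => hW _
  let E : ∐ Ws ⟶ Spec (CommRingCat.of R) := Sigma.desc fun i => e (s.equivFin.symm i.down)
  haveI : Etale E := IsZariskiLocalAtSource.sigmaDesc fun i => he _
  haveI : Surjective E := ⟨fun x => by
    obtain ⟨y, hy, hxy⟩ := Set.mem_iUnion₂.1 (hs (Set.mem_univ x))
    obtain ⟨z, hz⟩ := hxy
    obtain ⟨i, hi⟩ := s.equivFin.symm.surjective ⟨y, hy⟩
    subst hz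
    have : (s.equivFin.symm i).1 = y := congrArg Subtype.val hi
    subst this
    exact ⟨Sigma.ι Ws ⟨i⟩ z, by rw [← Scheme.Hom.comp_apply, Sigma.ι_desc]⟩⟩
  let R' := Γ(∐ Ws, ⊤)
  obtain ⟨ρ, hρ⟩ : ∃ ρ : CommRingCat.of R ⟶ R', Spec.map ρ = (∐ Ws).isoSpec.inv ≫ E := ⟨_, Spec.map_preimage _⟩
  letI : Algebra R R' := ρ.hom.toAlgebra
  have h1 : Etale (Spec.map ρ) := by rw [hρ]; infer_instance
  have h2 : Surjective (Spec.map ρ) := by rw [hρ]; infer_instance
  haveI : Algebra.Etale R R' := RingHom.etale_algebraMap.mp ((HasRingHomProperty.Spec_iff (P := @Etale)).1 h1)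
  refine ⟨R', inferInstance, inferInstance, inferInstance, Module.FaithfullyFlat.of_comap_surjective h2.surj,
    (∐ Ws).isoSpec.inv ≫ Sigma.desc fun i => r (s.equivFin.symm i.down), ?_⟩
  show _ = Spec.map ρ
  rw [hρ, Category.assoc]
  exact congrArg ((∐ Ws).isoSpec.inv ≫ ·) (Sigma.hom_ext _ _ fun i => by simp [E, hr])

theorem exists_section (R : Type u) [CommRing R] (G : Over (Spec (CommRingCat.of R⟦X⟧))) [GrpObj G] [IsAffine G.left]
    [Smooth G.hom] (P : Over (Spec (CommRingCat.of R⟦X⟧))) (a : AlgGrp.Action G P)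
    (hP : NonAbH1.IsTorsorFor Scheme.fpqcPrecoverage a) :
    ∃ (R' : Type u) (_ : CommRing R') (_ : Algebra R R'),
      Algebra.Etale R R' ∧ Module.FaithfullyFlat R R' ∧
      NonAbH1.HasSectionOver P (Spec.map (CommRingCat.ofHom (PowerSeries.map (algebraMap R R')))) := by
  haveI : IsAffineHom G.hom := inferInstance
  obtain ⟨_, _, _⟩ := smooth_surjective_affine hP
  let c := Spec.map (CommRingCat.ofHom (constantCoeff (R := R)))
  haveI : IsAffine P.left := isAffine_of_isAffineHom P.hom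
  haveI : Smooth (pullback.snd P.hom c) := MorphismProperty.pullback_snd _ _ inferInstance
  haveI : Surjective (pullback.snd P.hom c) := MorphismProperty.pullback_snd _ _ inferInstance
  obtain ⟨R', _, _, het, hff, t, ht⟩ := exists_affine_etale_section (pullback.snd P.hom c)
  let C := Γ(P.left, ⊤)
  obtain ⟨ψ, hψ⟩ : ∃ ψ : CommRingCat.of R⟦X⟧ ⟶ C, Spec.map ψ = P.left.isoSpec.inv ≫ P.hom := ⟨_, Spec.map_preimage _⟩
  letI : Algebra R⟦X⟧ C := ψ.hom.toAlgebra
  letI : Algebra R⟦X⟧ R'⟦X⟧ := (PowerSeries.map (algebraMap R R')).toAlgebra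
  have hs : Smooth (Spec.map ψ) := by rw [hψ]; infer_instance
  haveI : Algebra.Smooth R⟦X⟧ C := RingHom.smooth_algebraMap.mp ((HasRingHomProperty.Spec_iff (P := @Smooth)).1 hs)
  obtain ⟨g₀, hg₀⟩ : ∃ g₀ : C ⟶ CommRingCat.of R', Spec.map g₀ = (t ≫ pullback.fst P.hom c) ≫ P.left.isoSpec.hom :=
    ⟨_, Spec.map_preimage _⟩
  have hcond : ψ ≫ g₀ = CommRingCat.ofHom ((constantCoeff (R := R')).comp (PowerSeries.map (algebraMap R R'))) := by
    have e1 : (constantCoeff (R := R')).comp (PowerSeries.map (algebraMap R R')) =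
        (algebraMap R R').comp (constantCoeff (R := R)) := by
      ext f
      show constantCoeff (PowerSeries.map (algebraMap R R') f) = algebraMap R R' (constantCoeff f)
      rw [← coeff_zero_eq_constantCoeff_apply, ← coeff_zero_eq_constantCoeff_apply, coeff_map]
    apply Spec.map_injective
    rw [Spec.map_comp, hg₀, hψ, e1, CommRingCat.ofHom_comp, Spec.map_comp, ← ht]
    rw [Category.assoc, Category.assoc, Iso.hom_inv_id_assoc]
    exact (congrArg (t ≫ ·) pullback.condition).trans (Category.assoc _ _ _).symm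
  obtain ⟨g, -⟩ := exists_lift_powerSeries (Q := R⟦X⟧) g₀.hom (congrArg CommRingCat.Hom.hom hcond)
  refine ⟨R', inferInstance, inferInstance, het, hff, Spec.map (CommRingCat.ofHom g.toRingHom) ≫ P.left.isoSpec.inv, ?_⟩
  rw [Category.assoc, ← hψ, ← Spec.map_comp]
  exact congrArg Spec.map (CommRingCat.hom_ext g.comp_algebraMap)

end Groth.Agent.H18LoopTor
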