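import Mathlib.RingTheory.Smooth.Basic
import Mathlib.RingTheory.PowerSeries.Basic
import Mathlib.RingTheory.PowerSeries.Inverse

/-! Points of formally smooth algebras lift to power series. -/

set_option autoImplicit false
universe u

open PowerSeries

namespace Groth.Agent.H18LoopTor

variable {Q T C : Type u} [CommRing Q] [CommRing T] [CommRing C] [Algebra Q C] [Algebra.FormallySmooth Q C]
  [Algebra Q T⟦X⟧]

theorem exists_lift_powerSeries (g₀ : C →+* T)
    (h : g₀.comp (algebraMap Q C) = (constantCoeff (R := T)).comp (algebraMap Q T⟦X⟧)) :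
    ∃ g : C →ₐ[Q] T⟦X⟧, ∀ c, constantCoeff (g c) = g₀ c := by
  let J : ℕ → Ideal T⟦X⟧ := fun n => Ideal.span {X ^ (n + 1)}
  have hmem : ∀ n (f : T⟦X⟧), f ∈ J n ↔ ∀ m, m < n + 1 → coeff m f = 0 := fun n f => by
    rw [Ideal.mem_span_singleton, X_pow_dvd_iff]
  -- the first stage
  have base : ∃ φ : C →ₐ[Q] T⟦X⟧ ⧸ J 0, ∀ c, φ c = Ideal.Quotient.mk (J 0) (PowerSeries.C (g₀ c)) := by
    refine ⟨{ toRingHom := (Ideal.Quotient.mk (J 0)).comp ((PowerSeries.C (R := T)).comp g₀), commutes' := fun r => ?_ },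
      fun c => rfl⟩
    show Ideal.Quotient.mk (J 0) (PowerSeries.C (g₀ (algebraMap Q C r))) = Ideal.Quotient.mk (J 0) (algebraMap Q T⟦X⟧ r)
    rw [show g₀ (algebraMap Q C r) = constantCoeff (algebraMap Q T⟦X⟧ r) from congr($h r), Ideal.Quotient.eq, hmem]
    intro m hm
    obtain rfl : m = 0 := by omega
    simp
  have hle : ∀ n, J (n + 1) ≤ J n := fun n => by
    rw [Ideal.span_singleton_le_span_singleton]
    exact pow_dvd_pow _ (by omega)
  have step : ∀ n (φ : C →ₐ[Q] T⟦X⟧ ⧸ J n), ∃ ψ : C →ₐ[Q] T⟦X⟧ ⧸ J (n + 1),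
      (Ideal.Quotient.factorₐ Q (hle n)).comp ψ = φ := by
    intro n φ
    let I : Ideal (T⟦X⟧ ⧸ J (n + 1)) := (J n).map (Ideal.Quotient.mk (J (n + 1)))
    have hI : IsNilpotent I := ⟨2, by
      rw [Ideal.zero_eq_bot, ← Ideal.map_pow, Ideal.map_eq_bot_iff_le_ker, Ideal.mk_ker, Ideal.span_singleton_pow,
        Ideal.span_singleton_le_span_singleton, ← pow_mul]
      exact pow_dvd_pow _ (by omega)⟩
    let e : ((T⟦X⟧ ⧸ J (n + 1)) ⧸ I) ≃ₐ[Q] T⟦X⟧ ⧸ J n :=
      (DoubleQuot.quotQuotEquivQuotSupₐ Q (J (n + 1)) (J n)).trans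
        (Ideal.quotientEquivAlgOfEq Q (sup_eq_right.mpr (hle n)))
    obtain ⟨ψ, hψ⟩ := Algebra.FormallySmooth.exists_lift I hI (e.symm.toAlgHom.comp φ)
    refine ⟨ψ, AlgHom.ext fun c => ?_⟩
    have h1 : e (Ideal.Quotient.mk I (ψ c)) = φ c := by
      have := congr($hψ c)
      simp only [AlgHom.comp_apply, Ideal.Quotient.mkₐ_eq_mk] at this
      rw [this]
      exact e.apply_symm_apply _
    rw [← h1]
    obtain ⟨t, ht⟩ := Ideal.Quotient.mk_surjective (ψ c)
    show Ideal.Quotient.factorₐ Q (hle n) (ψ c) = _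
    rw [← ht]
    rfl
  obtain ⟨φ₀, hφ₀⟩ := base
  choose next hnext using step
  let φ : ∀ n, C →ₐ[Q] T⟦X⟧ ⧸ J n := fun n =>
    Nat.rec (motive := fun n => C →ₐ[Q] T⟦X⟧ ⧸ J n) φ₀ (fun n p => next n p) n
  let rep : ℕ → C → T⟦X⟧ := fun n c => (Ideal.Quotient.mk_surjective (φ n c)).choose
  have hrep : ∀ n c, Ideal.Quotient.mk (J n) (rep n c) = φ n c :=
    fun n c => (Ideal.Quotient.mk_surjective (φ n c)).choose_spec
  have hcompat : ∀ n c, rep (n + 1) c - rep n c ∈ J n := fun n c => by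
    rw [← Ideal.Quotient.eq, hrep]
    have := congr($(hnext n (φ n)) c)
    rw [AlgHom.comp_apply, show next n (φ n) c = φ (n + 1) c from rfl, ← hrep (n + 1) c] at this
    exact this
  let G : C → T⟦X⟧ := fun c => PowerSeries.mk fun m => coeff m (rep m c)
  have hstab : ∀ n c m, m ≤ n → coeff m (rep n c) = coeff m (rep m c) := by
    intro n c m hm
    induction n, hm using Nat.le_induction with
    | base => rfl
    | succ k hk ih =>
      rw [← ih, ← sub_eq_zero, ← map_sub]
      exact (hmem k _).1 (hcompat k c) m (by omega)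
  have hG : ∀ n c, Ideal.Quotient.mk (J n) (G c) = φ n c := fun n c => by
    rw [← hrep, Ideal.Quotient.eq, hmem]
    intro m hm
    simp [G, hstab n c m (by omega)]
  have hext : ∀ f f' : T⟦X⟧, (∀ n, Ideal.Quotient.mk (J n) f = Ideal.Quotient.mk (J n) f') → f = f' := by
    intro f f' hf
    ext m
    have := (hmem m _).1 (Ideal.Quotient.eq.1 (hf m)) m (by omega)
    rwa [map_sub, sub_eq_zero] at this
  refine ⟨{ toFun := G
            map_one' := hext _ _ fun n => by rw [hG, map_one, map_one]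
            map_mul' := fun a b => hext _ _ fun n => by simp [hG]
            map_zero' := hext _ _ fun n => by rw [hG, map_zero, map_zero]
            map_add' := fun a b => hext _ _ fun n => by simp [hG]
            commutes' := fun r => hext _ _ fun n => by rw [hG, AlgHom.commutes]; rfl }, fun c => ?_⟩
  have h0 : Ideal.Quotient.mk (J 0) (G c) = Ideal.Quotient.mk (J 0) (PowerSeries.C (g₀ c)) :=
    (hG 0 c).trans (hφ₀ c)
  have := (hmem 0 _).1 (Ideal.Quotient.eq.1 h0) 0 (by omega)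
  rw [map_sub, sub_eq_zero, coeff_zero_eq_constantCoeff_apply, coeff_zero_eq_constantCoeff_apply,
    constantCoeff_C] at this
  exact this

end Groth.Agent.H18LoopTor
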